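import Cfsg.Agent.H230.CC.Three
import Cfsg.Agent.H49.CoThreeThree
import Cfsg.Agent.H419.Spor.Co3
import Cfsg.Agent.KFacts.Co3.Sheet
import Cfsg.Agent.H177.AACo3
import Cfsg.Agent.H177.AACo2
import Cfsg.Agent.H149.Sp.CopCoMain
import Cfsg.Agent.S0377

/-!
# S3828: the row of `Co3` (helper230)
-/

set_option autoImplicit false
set_option maxRecDepth 100000

namespace Cfsg.Agent.H230.CC.CoThree

open Subgroup Cfsg Cfsg.Agent.Lib.Cores
open Cfsg.Agent.H162.CCR hiding M
open Cfsg.Agent.H49.MatCo3
open Cfsg.Agent.H49.Form Cfsg.Agent.H49.Stab Cfsg.Agent.H49.CoThreeThree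
open Cfsg.Agent.SporadicStructure.Co0Matrix Cfsg.Agent.CoOneType.CoEval
open Cfsg.Agent.CoOneType.CoFast Cfsg.Agent.LThreeCo1.Ev
open Cfsg.Agent.SporadicStructure.Co0Base Cfsg.Agent.H177.AACo3b

theorem card_co3 : Nat.card Spor.Co3 = 495766656000 :=
  (Cfsg.Agent.BpSpor.Row.dat_co3 (K := Spor.Co3) ⟨MulEquiv.refl _⟩).card

theorem simple_co3 : IsSimpleGroup Spor.Co3 :=
  (Cfsg.Agent.BpSpor.Row.dat_co3 (K := Spor.Co3) ⟨MulEquiv.refl _⟩).simple

instance finite_co3 : Finite Spor.Co3 := Nat.finite_of_card_ne_zero (by rw [card_co3]; norm_num)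

theorem hO (q : ℕ) [Fact q.Prime] : pCore q Spor.Co3 = ⊥ := by
  have := simple_co3
  exact pCore_bot_of_simple' (a := 2) (b := 3) card_co3 (by norm_num) Nat.prime_two Nat.prime_three (by norm_num)
    (by norm_num) (by norm_num) q

/-! ### `p = 23` -/

theorem k_injective : Function.Injective Cfsg.Agent.H419.Spor.Co3.k := by
  intro a b h
  have h1 := congrArg Cfsg.Agent.H419.Spor.Co3.inc h
  rw [Cfsg.Agent.H419.Spor.Co3.inc_k, Cfsg.Agent.H419.Spor.Co3.inc_k] at h1
  exact Subtype.ext (Cfsg.Agent.CoOneType.Thirteen.permCo0_injective h1)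

theorem row_m23 {p : ℕ} [Fact p.Prime] (h : ¬ p * 10200960 ∣ 495766656000) : CRow p Spor.Co3 :=
  crow_of_sub (a := 2) (b := 3) Cfsg.Agent.H419.Spor.Co3.k k_injective (Cfsg.Agent.S0377.result none)
    (Cfsg.Agent.S0376.result none) card_co3 (by norm_num) Nat.prime_two Nat.prime_three (by norm_num)
    (by norm_num) (by norm_num) (by norm_num) h

/-! ### `p = 5, 7, 11` -/

theorem row_mcl {p : ℕ} [Fact p.Prime] (h : ¬ p * 898128000 ∣ 495766656000) : CRow p Spor.Co3 :=
  crow_of_sub (a := 2) (b := 3) (Subgroup.inclusion (inf_le_left : Spor.McL ≤ Spor.Co3))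
    (Subgroup.inclusion_injective _) Cfsg.Agent.H177.AACo2.simple_McL
    Cfsg.Agent.H177.AACo2.card_McL card_co3 (by norm_num) Nat.prime_two Nat.prime_three (by norm_num)
    (by norm_num) (by norm_num) (by norm_num) h

/-! ### `p = 2` -/

theorem row_two : CRow 2 Spor.Co3 := by
  obtain ⟨z, hz⟩ := Cfsg.Agent.KFacts.Co3.Sheet.exists_facts (K := Spor.Co3) ⟨MulEquiv.refl _⟩
  have h2 : Fact (Nat.Prime 2) := ⟨Nat.prime_two⟩
  intro C hC
  set H := centralizer ({z} : Set Spor.Co3) with hH
  have hcard : Nat.card H = 2903040 := hz.card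
  refine hC.eq_one_of_two_exp (hO 2) (H := H) ?_ ?_ ?_
  · intro h
    rw [h, Subgroup.card_top, card_co3] at hcard
    norm_num at hcard
  · intro h
    have h3 := Subgroup.card_mul_index H
    rw [hcard, card_co3] at h3
    omega
  · -- `O_2(H)` is central
    have h4 : pCore 2 H ≤ center H := by
      refine Cfsg.Agent.SignalizersComponents.QsBasic.normal_le_center_of_ne_top hz.quasi _ ?_
      intro h5
      have h6 : IsPGroup 2 H := (pCore_eq_top_iff 2).1 h5
      obtain ⟨n, hn⟩ := IsPGroup.iff_card.1 h6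
      rw [hcard] at hn
      have h7 : 3 ∣ 2 ^ n := by rw [← hn]; norm_num
      have := Nat.prime_three.dvd_of_dvd_pow h7
      norm_num at this
    intro x hx
    have h5 := mem_center_iff.1 (h4 hx)
    have h6 := hz.center x.1 x.2 (fun y hy => congrArg Subtype.val (h5 ⟨y, hy⟩))
    apply Subtype.ext
    show (x : Spor.Co3) * x = 1
    rcases h6 with h6 | h6
    · rw [h6, one_mul]
    · rw [h6]
      exact hz.basic.zz

/-! ### `p = 3` -/

/-- the vector fixed by four generators of `3^5` -/
def yL : List ℤ := [0, -2, -2, 0, -2, -2, 0, 0, 0, 0, 0, 0, -2, 0, 0, 0, 0, 0, 0, 0, -2, -2, 0, -2]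

theorem yL_mem : leechB yL = true := by decide +kernel

def y : leechLattice := ⟨vec yL, vec_mem_of_leechB yL_mem⟩

theorem y_coe : (y : GolayPt → ℤ) = vec yL := rfl

theorem y_X : y ∈ X Spor.leechV := by
  constructor
  · show dotInt (vec yL) (vec yL) = 32
    unfold dotInt
    decide +kernel
  · show dotInt (fun p => Spor.vecV p - vec yL p) (fun p => Spor.vecV p - vec yL p) = 32
    unfold dotInt
    decide +kernel

theorem f_eleven : eqB (xM M) [2, 2, 2, 2, 2, 2, 2, 2, 2, 2, 2] [] = true := by decide +kernel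

theorem f_ne : neB' (xM M) [2] [] = true := by decide +kernel

theorem fixes : ∀ i < 4, foldZ (xM M) (wv i) yL = yL := by decide +kernel

theorem moves : foldZ (xM M) (wv 4) yL ≠ yL := by decide +kernel

/-- the stabilisers of the 552 vectors -/
theorem stab {x : leechLattice} (hx : x ∈ X Spor.leechV) :
    IsSimpleGroup ↥(MulAction.stabilizer (St Spor.leechV) x) ∧
      Nat.card ↥(MulAction.stabilizer (St Spor.leechV) x) = 898128000 := by
  have h1 := Cfsg.Agent.S0404.result x (Spor.leechV - x) (by rw [← dt_self]; exact hx.1)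
    (by rw [← dt_self]; exact hx.2) (by
      change dt x (Spor.leechV - x) = -8
      rw [dt_sub_right, dt_comm, X_dot Cfsg.Agent.H177.AACo3.hu hx, hx.1]
      norm_num)
  have e : ↥(MulAction.stabilizer (St Spor.leechV) x) ≃*
      ↥((MulAction.stabilizer (St Spor.leechV) x).map (inc Spor.leechV)) :=
    Subgroup.equivMapOfInjective _ _ (inc_injective _)
  have h2 : (MulAction.stabilizer (St Spor.leechV) x).map (inc Spor.leechV) =
      MulAction.stabilizer Co0 x ⊓ MulAction.stabilizer Co0 (Spor.leechV - x) := by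
    ext g
    constructor
    · rintro ⟨k, hk, rfl⟩
      have h3 : (inc Spor.leechV k) • x = x := hk
      have h4 : (inc Spor.leechV k) • Spor.leechV = Spor.leechV := k.2.2
      refine ⟨h3, ?_⟩
      change (inc Spor.leechV k) • (Spor.leechV - x) = Spor.leechV - x
      rw [co0_smul_sub, h4, h3]
    · rintro ⟨h3, h4⟩
      have h3' : g • x = x := h3
      have h4' : g • (Spor.leechV - x) = Spor.leechV - x := h4
      rw [co0_smul_sub, h3'] at h4'
      have h5 : g • Spor.leechV = Spor.leechV := by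
        have := congrArg (fun z => z + x) h4'
        simpa using this
      exact ⟨⟨g.1, g.2, h5⟩, h3, rfl⟩
  rw [h2] at e
  have := h1.1
  exact ⟨(MulEquiv.isSimpleGroup_congr e).2 h1.1, by rw [Nat.card_congr e.toEquiv]; exact h1.2⟩

theorem row_three : CRow 3 Spor.Co3 := by
  have h3f : Fact (Nat.Prime 3) := ⟨Nat.prime_three⟩
  show CRow 3 (St Spor.leechV)
  have hfin : Finite (St Spor.leechV) := finite_co3
  have hcard : Nat.card (St Spor.leechV) = 495766656000 := card_co3
  set e := xs okM fix with he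
  have W : ∀ {w w' : List ℕ}, eqB (xM M) w w' = true → (w.map e).prod = (w'.map e).prod := word_eq okM fix
  have N : ∀ {w w' : List ℕ}, neB' (xM M) w w' = true → (w.map e).prod ≠ (w'.map e).prod := word_ne okM fix
  have e33 : e 33 = (e 1)⁻¹ := xs_inv okM fix (i := 1) (by norm_num)
  have e37 : e 37 = (e 5)⁻¹ := xs_inv okM fix (i := 5) (by norm_num)
  have hwv : ∀ i, ((wv i).map e).prod = vv (e 2) (e 1) i := wv_prod okM fix
  have C := chk
  have hfl : ∀ w : List ℕ, ((w.flatMap wv).map e).prod = (w.map (vv (e 2) (e 1))).prod := by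
    intro w
    induction w with
    | nil => rfl
    | cons k w ih =>
      rw [List.flatMap_cons, List.map_append, List.prod_append, ih, hwv, List.map_cons, List.prod_cons]
  have hb'w : (([5, 4, 37] : List ℕ).map e).prod = e 5 * e 4 * (e 5)⁻¹ := by
    simp only [List.map_cons, List.map_nil, List.prod_cons, List.prod_nil, mul_one, e37, mul_assoc]
  have hone : ∀ i, (([i] : List ℕ).map e).prod = e i := fun i => by simp
  have hcons : ∀ i (l : List ℕ), ((i :: l).map e).prod = e i * (l.map e).prod := fun i l => by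
    rw [List.map_cons, List.prod_cons]
  have happ : ∀ l l' : List ℕ, ((l ++ l').map e).prod = (l.map e).prod * (l'.map e).prod := fun l l' => by
    rw [List.map_append, List.prod_append]
  have hb3 : e 4 ^ 3 = 1 := by
    have := W C.c9
    simp only [List.map_cons, List.map_nil, List.prod_cons, List.prod_nil, mul_one] at this
    rw [pow_succ, pow_two, mul_assoc]; exact this
  have hfixv : ∀ i, i + 1 < 5 → vv (e 2) (e 1) i • y = y := by
    intro i hi
    apply Subtype.ext
    rw [← hwv, smul_word okM fix (by decide) y_coe, fixes i (by omega)]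
    rfl
  refine crow_three (a := e 1) (f := e 2) (b := e 4) (b' := e 5 * e 4 * (e 5)⁻¹) (hO 3) y ?_ ?_ ?_ ?_ hb3 ?_ ?_ ?_ ?_ ?_ ?_
    hfixv ?_ (by rw [hcard]; norm_num) ?_ ?_
  · have := W C.c1
    simp only [List.map_cons, List.map_nil, List.prod_cons, List.prod_nil, mul_one] at this
    rw [pow_succ, pow_two, mul_assoc]; exact this
  · intro k hk
    have := W (C.c2 k hk)
    rw [hcons, happ, hwv, hone] at this
    exact this
  · have := W C.c3
    rw [hwv, hfl] at this
    rw [this]
    simp only [Cfsg.Agent.H49.CoThreeThree.w, List.map_cons, List.map_nil, List.prod_cons, List.prod_nil, mul_one,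
      mul_assoc]
  · have := W f_eleven
    simp only [List.map_cons, List.map_nil, List.prod_cons, List.prod_nil, mul_one] at this
    rw [← this]
    simp only [pow_succ, pow_zero, one_mul, mul_assoc]
  · rw [conj_pow, hb3, mul_one, mul_inv_cancel]
  · intro k hk
    have := W (C.c10 k hk)
    rw [hcons, happ, hwv, hfl, hone] at this
    exact mem_of_word (C.hbw k hk) this
  · intro k hk
    have := W (C.c11 k hk)
    rw [happ, happ, hwv, hfl, hb'w] at this
    exact mem_of_word (C.hbw' k hk) this
  · have := W C.c12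
    rw [show ([4, 5, 4, 37] : List ℕ) = 4 :: [5, 4, 37] from rfl, show ([5, 4, 37, 4] : List ℕ) = [5, 4, 37] ++ [4] from rfl,
      hcons, happ, hb'w, hone] at this
    exact this
  · have := N C.c14
    rwa [happ, hwv, hone, hcons, hwv] at this
  · intro j hj
    have := N (C.c15 j hj)
    rwa [happ, happ, happ, happ, hwv, hb'w, List.map_replicate, List.prod_replicate] at this
  · intro h0
    apply moves
    have h1 := congrArg (Subtype.val) h0
    rw [show 5 - 1 = 4 from rfl, ← hwv, smul_word okM fix (by decide) y_coe] at h1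
    refine vec_injective ?_ (by decide) h1
    decide +kernel
  · intro g hg hc
    have h11 : orderOf (e 2) = 11 := by
      have : Fact (Nat.Prime 11) := ⟨by norm_num⟩
      refine orderOf_eq_prime ?_ ?_
      · have := W f_eleven
        simp only [List.map_cons, List.map_nil, List.prod_cons, List.prod_nil, mul_one] at this
        rw [← this]
        simp only [pow_succ, pow_zero, one_mul, mul_assoc]
      · have := N f_ne
        simpa using this
    apply Cfsg.Agent.H149.Sp.CopCo.co3_11_3 (e 2) h11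
    have h5 : (⟨g, mem_centralizer_singleton_iff.2 hc⟩ : centralizer ({e 2} : Set (St Spor.leechV))) ∈
        (⊤ : Subgroup _) := trivial
    have h6 := orderOf_dvd_natCard (⟨g, mem_centralizer_singleton_iff.2 hc⟩ : centralizer ({e 2} : Set (St Spor.leechV)))
    rw [orderOf_mk, hg] at h6
    rw [zero_add, pow_one]
    exact h6
  · obtain ⟨hs, hc⟩ := stab y_X
    refine ⟨fun h => ?_, ?_⟩
    · rw [h, Subgroup.card_top, hcard] at hc
      norm_num at hc
    · exact pCore_bot_of_simple' (a := 2) (b := 3) hc (by norm_num) Nat.prime_two Nat.prime_three (by norm_num)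
        (by norm_num) (by norm_num) 3

/-- **The row of `Co3`.** -/
theorem crow_co3 {G : Type*} [Group G] (h : Spor.IsoCo3 G) (p : ℕ) [hp : Fact p.Prime] : CRow p G := by
  obtain ⟨e⟩ := h
  refine CRow.of_equiv e ?_
  by_cases hd : p ∣ Nat.card Spor.Co3
  swap
  · exact crow_of_not_dvd hd
  have hf : Nat.card Spor.Co3 = 2 ^ 10 * 3 ^ 7 * 5 ^ 3 * 7 * 11 * 23 := by rw [card_co3]; norm_num
  rw [hf] at hd
  have hpp := hp.out
  have key : p = 2 ∨ p = 3 ∨ p = 5 ∨ p = 7 ∨ p = 11 ∨ p = 23 := by
    rcases (Nat.Prime.dvd_mul hpp).1 hd with hd | hd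
    · rcases (Nat.Prime.dvd_mul hpp).1 hd with hd | hd
      · rcases (Nat.Prime.dvd_mul hpp).1 hd with hd | hd
        · rcases (Nat.Prime.dvd_mul hpp).1 hd with hd | hd
          · rcases (Nat.Prime.dvd_mul hpp).1 hd with hd | hd
            · exact Or.inl ((Nat.prime_dvd_prime_iff_eq hpp (by norm_num)).1 (hpp.dvd_of_dvd_pow hd))
            · exact Or.inr (Or.inl ((Nat.prime_dvd_prime_iff_eq hpp (by norm_num)).1 (hpp.dvd_of_dvd_pow hd)))
          · exact Or.inr (Or.inr (Or.inl ((Nat.prime_dvd_prime_iff_eq hpp (by norm_num)).1 (hpp.dvd_of_dvd_pow hd))))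
        · exact Or.inr (Or.inr (Or.inr (Or.inl ((Nat.prime_dvd_prime_iff_eq hpp (by norm_num)).1 hd))))
      · exact Or.inr (Or.inr (Or.inr (Or.inr (Or.inl ((Nat.prime_dvd_prime_iff_eq hpp (by norm_num)).1 hd)))))
    · exact Or.inr (Or.inr (Or.inr (Or.inr (Or.inr ((Nat.prime_dvd_prime_iff_eq hpp (by norm_num)).1 hd)))))
  rcases key with rfl | rfl | rfl | rfl | rfl | rfl
  · exact row_two
  · exact row_three
  · exact row_mcl (by norm_num)
  · exact row_mcl (by norm_num)
  · exact row_mcl (by norm_num)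
  · exact row_m23 (by norm_num)

end Cfsg.Agent.H230.CC.CoThree
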