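import Cfsg.Agent.H230.CC.Tool
import Cfsg.Agent.H419.Spor.Co2
import Cfsg.Agent.H935.Meet.CoTwo
import Cfsg.Agent.H177.AACo2
import Cfsg.Agent.S0377
import Cfsg.Agent.S0378
import Cfsg.Agent.S0379
import Cfsg.Agent.S0365
import Cfsg.Agent.S0364

/-!
# S3828: the row of `Co2` (helper230)
-/

set_option autoImplicit false

namespace Cfsg.Agent.H230.CC.CoTwo

open Subgroup Cfsg Cfsg.Agent.Lib.Cores Cfsg.Agent.H162.CCR
open Cfsg.Agent.SporadicA.Co0Mono
open Cfsg.Agent.H935.Meet.CoTwo

theorem card_co2 : Nat.card Spor.Co2 = 42305421312000 := Cfsg.Agent.Co2Type.CardCo2.card_co2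

theorem simple_co2 : IsSimpleGroup Spor.Co2 := Cfsg.Agent.Schreier.CoTwoStab.isSimpleGroup

instance finite_co2 : Finite Spor.Co2 := Nat.finite_of_card_ne_zero (by rw [card_co2]; norm_num)

theorem hO (q : ℕ) [Fact q.Prime] : pCore q Spor.Co2 = ⊥ := by
  have := simple_co2
  exact pCore_bot_of_simple' (a := 2) (b := 3) card_co2 (by norm_num) Nat.prime_two Nat.prime_three (by norm_num)
    (by norm_num) (by norm_num) q

/-! ### `p = 23` -/

theorem k_injective : Function.Injective Cfsg.Agent.H419.Spor.Co2.k := by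
  intro a b h
  have h1 := congrArg Cfsg.Agent.H419.Spor.Co2.inc h
  rw [Cfsg.Agent.H419.Spor.Co2.inc_k, Cfsg.Agent.H419.Spor.Co2.inc_k] at h1
  exact Subtype.ext (Cfsg.Agent.CoOneType.Thirteen.permCo0_injective h1)

theorem row_m23 {p : ℕ} [Fact p.Prime] (h : ¬ p * 10200960 ∣ 42305421312000) : CRow p Spor.Co2 :=
  crow_of_sub (a := 2) (b := 3) Cfsg.Agent.H419.Spor.Co2.k k_injective (Cfsg.Agent.S0377.result none)
    (Cfsg.Agent.S0376.result none) card_co2 (by norm_num) Nat.prime_two Nat.prime_three (by norm_num)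
    (by norm_num) (by norm_num) (by norm_num) h

/-! ### `p = 3, 5, 7, 11` -/

theorem row_mcl {p : ℕ} [Fact p.Prime] (h : ¬ p * 898128000 ∣ 42305421312000) : CRow p Spor.Co2 :=
  crow_of_sub (a := 2) (b := 3) (Subgroup.inclusion Cfsg.Agent.H177.AACo2.McL_le_Co2)
    (Subgroup.inclusion_injective _) Cfsg.Agent.H177.AACo2.simple_McL
    Cfsg.Agent.H177.AACo2.card_McL card_co2 (by norm_num) Nat.prime_two Nat.prime_three (by norm_num)
    (by norm_num) (by norm_num) (by norm_num) h

/-! ### `O_2(M22:2) = 1` -/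

theorem emb4_inj {α : Type*} (p : Fin 4 → α) (h01 : p 0 ≠ p 1) (h02 : p 0 ≠ p 2) (h03 : p 0 ≠ p 3)
    (h12 : p 1 ≠ p 2) (h13 : p 1 ≠ p 3) (h23 : p 2 ≠ p 3) : Function.Injective p := by
  intro i j hij
  have hlt : ∀ i j : Fin 4, i < j → p i ≠ p j := by
    intro i j hl
    fin_cases i <;> fin_cases j <;> first | (exact absurd hl (by decide)) | assumption
  rcases lt_trichotomy i j with h | h | h
  · exact absurd hij (hlt i j h)
  · exact h
  · exact absurd hij.symm (hlt j i h)

/-- four distinct points -/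
def emb4 {α : Type*} (p : Fin 4 → α) (h01 : p 0 ≠ p 1) (h02 : p 0 ≠ p 2) (h03 : p 0 ≠ p 3) (h12 : p 1 ≠ p 2)
    (h13 : p 1 ≠ p 3) (h23 : p 2 ≠ p 3) : Fin 4 ↪ α :=
  ⟨p, emb4_inj p h01 h02 h03 h12 h13 h23⟩

/-- four points can be moved -/
theorem move {a b b' : GolayPt} (ha : a ≠ none) (ha' : a ≠ some 0) (hb : b ≠ none) (hb' : b ≠ some 0) (hab : b ≠ a)
    (hc : b' ≠ none) (hc' : b' ≠ some 0) (hac : b' ≠ a) :
    ∃ k : M24, (k : Equiv.Perm GolayPt) none = none ∧ (k : Equiv.Perm GolayPt) (some 0) = some 0 ∧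
      (k : Equiv.Perm GolayPt) a = a ∧ (k : Equiv.Perm GolayPt) b = b' := by
  have h5 : MulAction.IsMultiplyPretransitive M24 GolayPt 5 := Cfsg.Agent.S0366.result
  have h4 : MulAction.IsMultiplyPretransitive M24 GolayPt 4 :=
    MulAction.isMultiplyPretransitive_of_le (n := 5) (by norm_num) (by
      rw [Nat.card_eq_fintype_card]
      exact (show 5 ≤ Fintype.card GolayPt by decide))
  rw [MulAction.isMultiplyPretransitive_iff] at h4
  have h0 : (none : GolayPt) ≠ some 0 := by simp
  obtain ⟨g, hg⟩ := h4 (emb4 ![none, some 0, a, b] h0 ha.symm hb.symm ha'.symm hb'.symm hab.symm)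
    (emb4 ![none, some 0, a, b'] h0 ha.symm hc.symm ha'.symm hc'.symm hac.symm)
  have key : ∀ i : Fin 4, (g : Equiv.Perm GolayPt) ((![none, some 0, a, b] : Fin 4 → GolayPt) i) =
      (![none, some 0, a, b'] : Fin 4 → GolayPt) i := fun i => DFunLike.congr_fun hg i
  exact ⟨g, key 0, key 1, key 2, key 3⟩

/-- the pointwise stabiliser of the two points, in `D22` -/
def K : Subgroup D22 := MulAction.stabilizer D22 (none : GolayPt)

theorem swap_or (x : D22) : ((x : Equiv.Perm GolayPt) none = none ∧ (x : Equiv.Perm GolayPt) (some 0) = some 0) ∨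
    ((x : Equiv.Perm GolayPt) none = some 0 ∧ (x : Equiv.Perm GolayPt) (some 0) = none) :=
  mem_stab.1 x.2.2

theorem mem_K {x : D22} : x ∈ K ↔ (x : Equiv.Perm GolayPt) none = none ∧ (x : Equiv.Perm GolayPt) (some 0) = some 0 := by
  constructor
  · intro h
    have h1 : (x : Equiv.Perm GolayPt) none = none := h
    rcases swap_or x with h2 | h2
    · exact h2
    · rw [h2.1] at h1
      simp at h1
  · intro h
    exact h.1

theorem K_normal : K.Normal := by
  refine ⟨fun x hx g => ?_⟩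
  rw [mem_K] at hx ⊢
  have hgi : ∀ a b : GolayPt, (g : Equiv.Perm GolayPt) a = b → ((g⁻¹ : D22) : Equiv.Perm GolayPt) b = a := by
    intro a b h
    rw [Subgroup.coe_inv, Equiv.Perm.inv_eq_iff_eq, h]
  have hm : ∀ a : GolayPt, ((g * x * g⁻¹ : D22) : Equiv.Perm GolayPt) a =
      (g : Equiv.Perm GolayPt) ((x : Equiv.Perm GolayPt) (((g⁻¹ : D22) : Equiv.Perm GolayPt) a)) := fun a => rfl
  rw [hm, hm]
  rcases swap_or g with h | h
  · rw [hgi _ _ h.1, hgi _ _ h.2, hx.1, hx.2, h.1, h.2]
    exact ⟨rfl, rfl⟩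
  · rw [hgi _ _ h.1, hgi _ _ h.2, hx.1, hx.2, h.1, h.2]
    exact ⟨rfl, rfl⟩

/-- `K` is isomorphic to the two point stabiliser in `M24` -/
def equivK : K ≃* ↥(MulAction.stabilizer M24 (none : GolayPt) ⊓ MulAction.stabilizer M24 (some 0 : GolayPt)) where
  toFun x := ⟨⟨((x : D22) : Equiv.Perm GolayPt), (x : D22).2.1⟩, (mem_K.1 x.2).1, (mem_K.1 x.2).2⟩
  invFun y := ⟨⟨((y : M24) : Equiv.Perm GolayPt), (y : M24).2, mem_stab.2 (Or.inl ⟨y.2.1, y.2.2⟩)⟩,
    mem_K.2 ⟨y.2.1, y.2.2⟩⟩
  left_inv x := rfl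
  right_inv y := rfl
  map_mul' x y := rfl

theorem K_card : Nat.card K = 443520 := by
  rw [Nat.card_congr equivK.toEquiv]
  exact Cfsg.Agent.S0378.result none (some 0) (by simp)

theorem K_simple : IsSimpleGroup K := (MulEquiv.isSimpleGroup_congr equivK).2 (Cfsg.Agent.S0379.result none (some 0) (by simp))

theorem pCore_K : pCore 2 K = ⊥ := by
  have h2 : Fact (Nat.Prime 2) := ⟨Nat.prime_two⟩
  have := K_simple
  have : Finite K := Nat.finite_of_card_ne_zero (by rw [K_card]; norm_num)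
  exact pCore_bot_of_simple' (a := 2) (b := 3) K_card (by norm_num) Nat.prime_two Nat.prime_three (by norm_num)
    (by norm_num) (by norm_num) 2

/-- the elements of `M24` are even permutations -/
theorem sign_M24 (g : M24) : Equiv.Perm.sign (g : Equiv.Perm GolayPt) = 1 := by
  have hs : IsSimpleGroup M24 := Cfsg.Agent.S0365.result
  let f : M24 →* ℤˣ := Equiv.Perm.sign.comp M24.subtype
  rcases hs.eq_bot_or_eq_top_of_normal f.ker inferInstance with h | h
  · exfalso
    have hinj : Function.Injective f := (MonoidHom.ker_eq_bot_iff f).1 h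
    have h1 := Nat.card_le_card_of_injective f hinj
    have h2 : Nat.card M24 = 244823040 := Cfsg.Agent.S0364.result
    rw [h2, Nat.card_eq_fintype_card] at h1
    have : Fintype.card ℤˣ = 2 := by decide
    omega
  · have h1 : g ∈ f.ker := by rw [h]; trivial
    exact h1

theorem pCore_D22 : pCore 2 D22 = ⊥ := by
  have h2 : Fact (Nat.Prime 2) := ⟨Nat.prime_two⟩
  rw [eq_bot_iff]
  intro x hx
  rw [mem_bot]
  by_contra hx1
  have hQK : ∀ y ∈ pCore 2 D22, y ∈ K → y = 1 := by
    intro y hy hyK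
    have h1 := map_subtype_pCore 2 K_normal
    rw [pCore_K, Subgroup.map_bot] at h1
    have h3 : y ∈ K ⊓ pCore 2 D22 := ⟨hyK, hy⟩
    rw [← h1, mem_bot] at h3
    exact h3
  -- `x` commutes with `K`
  have hcomm : ∀ k ∈ K, k * x = x * k := by
    intro k hk
    have h1 : k * x * k⁻¹ * x⁻¹ ∈ pCore 2 D22 := mul_mem
      ((inferInstance : (pCore 2 D22).Normal).conj_mem x hx k) (inv_mem hx)
    have h3 : k * x * k⁻¹ * x⁻¹ ∈ K := by
      have e : k * x * k⁻¹ * x⁻¹ = k * (x * k⁻¹ * x⁻¹) := by group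
      rw [e]
      exact mul_mem hk (K_normal.conj_mem _ (inv_mem hk) x)
    have h4 := hQK _ h1 h3
    calc k * x = (k * x * k⁻¹ * x⁻¹) * (x * k) := by group
      _ = x * k := by rw [h4, one_mul]
  -- `x` fixes the other points
  have hfix : ∀ a : GolayPt, a ≠ none → a ≠ some 0 → (x : Equiv.Perm GolayPt) a = a := by
    intro a ha ha'
    by_contra hne
    set b := (x : Equiv.Perm GolayPt) a with hb
    have hb1 : b ≠ none ∧ b ≠ some 0 := by
      rcases swap_or x with h | h
      · refine ⟨fun h3 => ha ?_, fun h3 => ha' ?_⟩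
        · apply (x : Equiv.Perm GolayPt).injective
          rw [← hb, h3, h.1]
        · apply (x : Equiv.Perm GolayPt).injective
          rw [← hb, h3, h.2]
      · refine ⟨fun h3 => ha' ?_, fun h3 => ha ?_⟩
        · apply (x : Equiv.Perm GolayPt).injective
          rw [← hb, h3, h.2]
        · apply (x : Equiv.Perm GolayPt).injective
          rw [← hb, h3, h.1]
    obtain ⟨b', hb'⟩ : ∃ b' : GolayPt, b' ∉ ({none, some 0, a, b} : Finset GolayPt) := by
      by_contra hcon
      push Not at hcon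
      have h3 : (Finset.univ : Finset GolayPt) ⊆ {none, some 0, a, b} := fun c _ => hcon c
      have h4 := Finset.card_le_card h3
      have h5 : ({none, some 0, a, b} : Finset GolayPt).card ≤ 4 := Finset.card_le_four
      have h6 : (Finset.univ : Finset GolayPt).card = 24 := by decide
      omega
    simp only [Finset.mem_insert, Finset.mem_singleton, not_or] at hb'
    obtain ⟨hb1', hb2', hb3', hb4'⟩ := hb'
    obtain ⟨k, hk1, hk2, hk3, hk4⟩ := move ha ha' hb1.1 hb1.2 hne hb1' hb2' hb3'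
    have hkK : (⟨(k : Equiv.Perm GolayPt), k.2, mem_stab.2 (Or.inl ⟨hk1, hk2⟩)⟩ : D22) ∈ K := mem_K.2 ⟨hk1, hk2⟩
    have h3 := hcomm _ hkK
    have h4 := DFunLike.congr_fun (congrArg Subtype.val h3) a
    have h5 : (k : Equiv.Perm GolayPt) ((x : Equiv.Perm GolayPt) a) =
        (x : Equiv.Perm GolayPt) ((k : Equiv.Perm GolayPt) a) := h4
    rw [hk3, ← hb, hk4] at h5
    exact hb4' h5
  rcases swap_or x with h | h
  · apply hx1
    exact hQK x hx (mem_K.2 h)
  · have hsw : (x : Equiv.Perm GolayPt) = Equiv.swap none (some 0) := by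
      ext1 a
      by_cases h1 : a = none
      · rw [h1, h.1, Equiv.swap_apply_left]
      · by_cases h3 : a = some 0
        · rw [h3, h.2, Equiv.swap_apply_right]
        · rw [hfix a h1 h3, Equiv.swap_apply_of_ne_of_ne h1 h3]
    have h3 := sign_M24 ⟨(x : Equiv.Perm GolayPt), x.2.1⟩
    simp only [hsw] at h3
    rw [Equiv.Perm.sign_swap (by simp)] at h3
    exact absurd h3 (by decide)

theorem row_two : CRow 2 Spor.Co2 := by
  have h2 : Fact (Nat.Prime 2) := ⟨Nat.prime_two⟩
  intro C hC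
  refine hC.eq_one_of_two_exp (hO 2) (H := H) ?_ odd_index_H ?_
  · intro h
    -- `H = Co2` maps onto `D22`
    have hcard : Nat.card H = 42305421312000 := by rw [h, Subgroup.card_top, card_co2]
    have hs : IsSimpleGroup H := by
      have := simple_co2
      rw [h]
      exact (MulEquiv.isSimpleGroup_congr Subgroup.topEquiv).2 simple_co2
    have hD : Nat.card D22 ≤ 244823040 := by
      rw [← (Cfsg.Agent.S0364.result : Nat.card M24 = 244823040)]
      have : Finite M24 := inferInstance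
      exact Nat.card_le_card_of_injective (Subgroup.inclusion (inf_le_left : D22 ≤ M24)) (Subgroup.inclusion_injective _)
    rcases hs.eq_bot_or_eq_top_of_normal pi.ker inferInstance with h1 | h1
    · have hinj : Function.Injective pi := (MonoidHom.ker_eq_bot_iff pi).1 h1
      have : Finite D22 := Nat.finite_of_card_ne_zero (by
        have : Finite (Equiv.Perm GolayPt) := inferInstance
        exact Nat.card_pos.ne')
      have h3 := Nat.card_le_card_of_injective pi hinj
      omega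
    · have h3 : ∀ d : D22, d = 1 := by
        intro d
        obtain ⟨y, rfl⟩ := pi_surjective d
        have : y ∈ pi.ker := by rw [h1]; trivial
        exact this
      have h4 := K_card
      have h5 : Subsingleton K := ⟨fun a b => Subtype.ext ((h3 a).trans (h3 b).symm)⟩
      have := Nat.card_unique (α := K)
      omega
  · intro y hy
    have h1 : pi y ∈ pCore 2 D22 := by
      have h3 : ((pCore 2 H).map pi).Normal := (inferInstance : (pCore 2 H).Normal).map pi pi_surjective
      have h4 : IsPGroup 2 ((pCore 2 H).map pi) := (pCore_isPGroup 2).map pi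
      exact le_pCore h3 h4 ⟨y, hy, rfl⟩
    rw [pCore_D22, mem_bot] at h1
    obtain ⟨c, hc⟩ := sign_of_pi h1
    apply Subtype.ext
    apply Cfsg.Agent.Co2Type.Mono.toCo0_injective
    show Cfsg.Agent.Co2Type.Mono.toCo0 ((y : Spor.Co2) * y) = Cfsg.Agent.Co2Type.Mono.toCo0 1
    rw [map_mul, hc, signCo0_mul_self, map_one]

/-- **The row of `Co2`.** -/
theorem crow_co2 {G : Type*} [Group G] (h : Spor.IsoCo2 G) (p : ℕ) [hp : Fact p.Prime] : CRow p G := by
  obtain ⟨e⟩ := h
  refine CRow.of_equiv e ?_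
  by_cases hd : p ∣ Nat.card Spor.Co2
  swap
  · exact crow_of_not_dvd hd
  have hf : Nat.card Spor.Co2 = 2 ^ 18 * 3 ^ 6 * 5 ^ 3 * 7 * 11 * 23 := by rw [card_co2]; norm_num
  rw [hf] at hd
  have hpp := hp.out
  have key : p = 2 ∨ p = 3 ∨ p = 5 ∨ p = 7 ∨ p = 11 ∨ p = 23 := by
    rcases (Nat.Prime.dvd_mul hpp).1 hd with hd | hd
    · rcases (Nat.Prime.dvd_mul hpp).1 hd with hd | hd
      · rcases (Nat.Prime.dvd_mul hpp).1 hd with hd | hd
        · rcases (Nat.Prime.dvd_mul hpp).1 hd with hd | hd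
          · rcases (Nat.Prime.dvd_mul hpp).1 hd with hd | hd
            · exact Or.inl ((Nat.prime_dvd_prime_iff_eq hpp (by norm_num)).1 (hpp.dvd_of_dvd_pow hd))
            · exact Or.inr (Or.inl ((Nat.prime_dvd_prime_iff_eq hpp (by norm_num)).1 (hpp.dvd_of_dvd_pow hd)))
          · exact Or.inr (Or.inr (Or.inl ((Nat.prime_dvd_prime_iff_eq hpp (by norm_num)).1 (hpp.dvd_of_dvd_pow hd))))
        · exact Or.inr (Or.inr (Or.inr (Or.inl ((Nat.prime_dvd_prime_iff_eq hpp (by norm_num)).1 hd))))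
      · exact Or.inr (Or.inr (Or.inr (Or.inr (Or.inl ((Nat.prime_dvd_prime_iff_eq hpp (by norm_num)).1 hd)))))
    · exact Or.inr (Or.inr (Or.inr (Or.inr (Or.inr ((Nat.prime_dvd_prime_iff_eq hpp (by norm_num)).1 hd)))))
  rcases key with rfl | rfl | rfl | rfl | rfl | rfl
  · exact row_two
  · exact row_mcl (by norm_num)
  · exact row_mcl (by norm_num)
  · exact row_mcl (by norm_num)
  · exact row_mcl (by norm_num)
  · exact row_m23 (by norm_num)

end Cfsg.Agent.H230.CC.CoTwo
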